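import Cfsg.Agent.LocalEven.MaxP
import Cfsg.Agent.FGS3.Extraspecial
import Cfsg.Prelude.Def_MonsterType

/-! Involutions whose centralizer has an extraspecial 2-core containing its own centralizer:
a conjugate in the core gives mutual containment. -/

set_option autoImplicit false
open Cfsg
open scoped commutatorElement

namespace Cfsg.Agent.Fischer

variable {G : Type*} [Group G] [Finite G]

/-- what is used about an extraspecial `E` normal in `C(z)` -/
structure CoreLike (z : G) (E : Subgroup G) : Prop where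
  sq : z * z = 1
  ne : z ≠ 1
  mem : z ∈ E
  comm : ∀ q ∈ E, q * z = z * q
  center : ∀ w ∈ E, (∀ q ∈ E, q * w = w * q) → w = 1 ∨ w = z
  brack : ∀ a ∈ E, ∀ b ∈ E, ⁅a, b⁆ = 1 ∨ ⁅a, b⁆ = z
  square : ∀ a ∈ E, a * a = 1 ∨ a * a = z
  norm : ∀ c : G, c * z = z * c → ∀ q ∈ E, c * q * c⁻¹ ∈ E
  small : ∀ c : G, (∀ q ∈ E, q * c = c * q) → c ∈ E

/-- ... when moreover `E = O₂(C(z))` -/
structure CoreAt (z : G) (E : Subgroup G) : Prop extends CoreLike z E where
  core : E = (pCore 2 ↥(Subgroup.centralizer ({z} : Set G))).map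
    (Subgroup.centralizer ({z} : Set G)).subtype

theorem mem_cent_singleton {z c : G} : c ∈ Subgroup.centralizer ({z} : Set G) ↔ c * z = z * c :=
  Subgroup.mem_centralizer_singleton_iff

theorem coreLike {z : G} {E : Subgroup G} (hz : orderOf z = 2)
    (hcomm : ∀ q ∈ E, q * z = z * q)
    (hnorm : ∀ c : G, c * z = z * c → ∀ q ∈ E, c * q * c⁻¹ ∈ E)
    (hE : IsExtraspecial 2 E) (hC : Subgroup.centralizer (E : Set G) ≤ E) : CoreLike z E := by
  haveI := Fact.mk Nat.prime_two
  have hzE : z ∈ E := hC (Subgroup.mem_centralizer_iff.2 hcomm)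
  have hne : z ≠ 1 := fun e => by simp [e] at hz
  have hsq : z * z = 1 := by
    have := pow_orderOf_eq_one z
    rwa [hz, pow_two] at this
  have hzc : (⟨z, hzE⟩ : E) ∈ Subgroup.center E :=
    Subgroup.mem_center_iff.2 fun g => Subtype.ext (hcomm g g.2)
  have hcen : ∀ w : E, w ∈ Subgroup.center E → (w : G) = 1 ∨ (w : G) = z := by
    intro w hw
    by_cases hw1 : w = 1
    · exact Or.inl (congrArg Subtype.val hw1)
    refine Or.inr ?_
    obtain ⟨x, y, hxy, huniv⟩ := Nat.card_eq_two_iff.1 hE.2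
    have key : ∀ u : Subgroup.center E, u = x ∨ u = y := fun u => by
      have : u ∈ ({x, y} : Set (Subgroup.center E)) := huniv ▸ Set.mem_univ u
      simpa using this
    have h1 : (⟨w, hw⟩ : Subgroup.center E) ≠ 1 := fun e => hw1 (congrArg Subtype.val e)
    have h2 : (⟨⟨z, hzE⟩, hzc⟩ : Subgroup.center E) ≠ 1 := fun e =>
      hne (congrArg (fun u : Subgroup.center E => ((u : E) : G)) e)
    have h3 : (⟨w, hw⟩ : Subgroup.center E) = ⟨⟨z, hzE⟩, hzc⟩ := by
      rcases key ⟨w, hw⟩ with e | e <;> rcases key ⟨⟨z, hzE⟩, hzc⟩ with e' | e' <;>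
        rcases key 1 with e1 | e1
      all_goals
        first
          | exact e.trans e'.symm
          | exact absurd (e.trans e1.symm) h1
          | exact absurd (e'.trans e1.symm) h2
    exact congrArg (fun u : Subgroup.center E => ((u : E) : G)) h3
  refine ⟨hsq, hne, hzE, hcomm, ?_, ?_, ?_, hnorm, ?_⟩
  · intro w hw h
    exact hcen ⟨w, hw⟩ (Subgroup.mem_center_iff.2 fun g => Subtype.ext (h g g.2))
  · intro a ha b hb
    have : ⁅(⟨a, ha⟩ : E), ⟨b, hb⟩⁆ ∈ Subgroup.center E :=
      hE.1.2.2 ▸ Subgroup.commutator_mem_commutator (Subgroup.mem_top _) (Subgroup.mem_top _)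
    exact hcen _ this
  · intro a ha
    have := FGS3.pow_mem_frattini (p := 2) hE.1.1 (⟨a, ha⟩ : E)
    rw [hE.1.2.1] at this
    have h := hcen _ this
    rwa [SubmonoidClass.coe_pow, pow_two] at h
  · intro c hc
    exact hC (Subgroup.mem_centralizer_iff.2 hc)

theorem coreAt {z : G} {E : Subgroup G} (hz : orderOf z = 2)
    (hEdef : E = (pCore 2 ↥(Subgroup.centralizer ({z} : Set G))).map
      (Subgroup.centralizer ({z} : Set G)).subtype)
    (hE : IsExtraspecial 2 E) (hC : Subgroup.centralizer (E : Set G) ≤ E) : CoreAt z E := by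
  refine ⟨coreLike hz (fun q hq => ?_) (fun c hc q hq => ?_) hE hC, hEdef⟩
  · rw [hEdef] at hq
    exact mem_cent_singleton.1 (Subgroup.map_subtype_le _ hq)
  · have h := Subgroup.mem_normalizer_iff.1
      (LocalEven.map_pCore_normalized (p := 2) (Subgroup.centralizer ({z} : Set G))
        (mem_cent_singleton.2 hc)) q
    rw [← hEdef] at h
    exact h.1 hq

theorem core_conj (g z : G) :
    (pCore 2 ↥(Subgroup.centralizer ({g * z * g⁻¹} : Set G))).map
      (Subgroup.centralizer ({g * z * g⁻¹} : Set G)).subtype =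
    LocalEven.cj g ((pCore 2 ↥(Subgroup.centralizer ({z} : Set G))).map
      (Subgroup.centralizer ({z} : Set G)).subtype) := by
  have hcj : Subgroup.centralizer ({g * z * g⁻¹} : Set G) =
      LocalEven.cj g (Subgroup.centralizer ({z} : Set G)) := by
    ext y
    rw [LocalEven.mem_cj, mem_cent_singleton, mem_cent_singleton]
    constructor
    · intro e
      calc g⁻¹ * y * g * z = g⁻¹ * (y * (g * z * g⁻¹)) * g := by group
        _ = g⁻¹ * (g * z * g⁻¹ * y) * g := by rw [e]
        _ = _ := by group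
    · intro e
      calc y * (g * z * g⁻¹) = g * (g⁻¹ * y * g * z) * g⁻¹ := by group
        _ = g * (z * (g⁻¹ * y * g)) * g⁻¹ := by rw [e]
        _ = _ := by group
  rw [hcj, LocalEven.map_pCore_cj]

theorem CoreLike.conj {z : G} {E : Subgroup G} (h : CoreLike z E) (g : G) :
    CoreLike (g * z * g⁻¹) (LocalEven.cj g E) := by
  have hback : ∀ {x : G}, x ∈ LocalEven.cj g E → g⁻¹ * x * g ∈ E :=
    fun hx => LocalEven.mem_cj.1 hx
  have hto : ∀ {x : G}, x ∈ E → g * x * g⁻¹ ∈ LocalEven.cj g E :=
    fun hx => LocalEven.mem_cj.2 (by simpa [mul_assoc] using hx)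
  have hinj : ∀ {x y : G}, g⁻¹ * x * g = y → x = g * y * g⁻¹ := by
    rintro x _ rfl; group
  refine ⟨?_, ?_, ?_, ?_, ?_, ?_, ?_, ?_, ?_⟩
  · calc g * z * g⁻¹ * (g * z * g⁻¹) = g * (z * z) * g⁻¹ := by group
      _ = 1 := by rw [h.sq]; group
  · intro e
    exact h.ne (conj_eq_one_iff.1 e)
  · exact hto h.mem
  · intro q hq
    have e := h.comm _ (hback hq)
    calc q * (g * z * g⁻¹) = g * (g⁻¹ * q * g * z) * g⁻¹ := by group
      _ = g * (z * (g⁻¹ * q * g)) * g⁻¹ := by rw [e]
      _ = _ := by group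
  · intro w hw hall
    rcases h.center _ (hback hw) (fun q hq => by
      have e := hall _ (hto hq)
      calc q * (g⁻¹ * w * g) = g⁻¹ * (g * q * g⁻¹ * w) * g := by group
        _ = g⁻¹ * (w * (g * q * g⁻¹)) * g := by rw [e]
        _ = _ := by group) with e | e
    · exact Or.inl (by simpa using hinj e)
    · exact Or.inr (hinj e)
  · intro a ha b hb
    have e : g⁻¹ * ⁅a, b⁆ * g = ⁅g⁻¹ * a * g, g⁻¹ * b * g⁆ := by
      simp only [commutatorElement_def]; group
    rcases h.brack _ (hback ha) _ (hback hb) with e' | e'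
    · exact Or.inl (by simpa using hinj (e.trans e'))
    · exact Or.inr (hinj (e.trans e'))
  · intro a ha
    have e : g⁻¹ * (a * a) * g = g⁻¹ * a * g * (g⁻¹ * a * g) := by group
    rcases h.square _ (hback ha) with e' | e'
    · exact Or.inl (by simpa using hinj (e.trans e'))
    · exact Or.inr (hinj (e.trans e'))
  · intro c hc q hq
    have := h.norm (g⁻¹ * c * g) (by
      calc g⁻¹ * c * g * z = g⁻¹ * (c * (g * z * g⁻¹)) * g := by group
        _ = g⁻¹ * (g * z * g⁻¹ * c) * g := by rw [hc]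
        _ = _ := by group) _ (hback hq)
    refine LocalEven.mem_cj.2 ?_
    simpa [mul_assoc] using this
  · intro c hc
    refine LocalEven.mem_cj.2 (h.small _ fun q hq => ?_)
    have e := hc _ (hto hq)
    calc q * (g⁻¹ * c * g) = g⁻¹ * (g * q * g⁻¹ * c) * g := by group
      _ = g⁻¹ * (c * (g * q * g⁻¹)) * g := by rw [e]
      _ = _ := by group

theorem CoreAt.conj {z : G} {E : Subgroup G} (h : CoreAt z E) (g : G) :
    CoreAt (g * z * g⁻¹) ((pCore 2 ↥(Subgroup.centralizer ({g * z * g⁻¹} : Set G))).map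
      (Subgroup.centralizer ({g * z * g⁻¹} : Set G)).subtype) := by
  refine ⟨?_, rfl⟩
  rw [core_conj, ← h.core]
  exact h.toCoreLike.conj g

namespace CoreLike

variable {z x : G} {E F : Subgroup G}

theorem odd_order_trivial (h : CoreLike z E) (hx : x ∈ E) (hxx : x * x = 1) (hx1 : x ≠ 1)
    (hxz : x ≠ z) (hab : ∀ a ∈ E, ∀ b ∈ E, a * x = x * a → b * x = x * b → a * b = b * a)
    {c : G} (hc : c * z = z * c) {m : ℕ} (hm : Odd m) (hcm : c ^ m = 1) : c = 1 := by
  obtain ⟨q0, hq0, hq0x⟩ : ∃ q ∈ E, q * x ≠ x * q := by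
    by_contra hn
    push_neg at hn
    rcases h.center x hx hn with e | e
    · exact hx1 e
    · exact hxz e
  have hqx : ⁅q0, x⁆ = z := (h.brack q0 hq0 x hx).resolve_left
    fun e => hq0x (commutatorElement_eq_one_iff_mul_comm.1 e)
  have hqx' : q0 * x = z * (x * q0) := by
    rw [← hqx, commutatorElement_def]; group
  -- the centralizer of x in E is {1, z, x, x z}
  have hP : ∀ a ∈ E, a * x = x * a → a = 1 ∨ a = z ∨ a = x ∨ a = x * z := by
    intro a ha hax
    have hcomm : ∀ b ∈ E, (b * a = a * b) → (∀ e : G, e ∈ E → e * x = x * e → e * b = b * e → True) :=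
      fun _ _ _ _ _ _ _ => trivial
    clear hcomm
    have hstep : ∀ a ∈ E, a * x = x * a → q0 * a = a * q0 → a = 1 ∨ a = z := by
      intro a ha hax hqa
      refine h.center a ha fun q hq => ?_
      rcases h.brack q hq x hx with e | e
      · exact hab q hq a ha (commutatorElement_eq_one_iff_mul_comm.1 e) hax
      · have hq' : (q0⁻¹ * q) * x = x * (q0⁻¹ * q) := by
          have e2 : q * x = z * (x * q) := by rw [← e, commutatorElement_def]; group
          calc q0⁻¹ * q * x = q0⁻¹ * (z * (x * q)) := by rw [mul_assoc, e2]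
            _ = q0⁻¹ * (z * (x * q0)) * (q0⁻¹ * q) := by group
            _ = q0⁻¹ * (q0 * x) * (q0⁻¹ * q) := by rw [hqx']
            _ = _ := by group
        have e3 := hab _ (mul_mem (inv_mem hq0) hq) a ha hq' hax
        calc q * a = q0 * (q0⁻¹ * q * a) := by group
          _ = q0 * a * (q0⁻¹ * q) := by rw [e3]; group
          _ = a * q := by rw [hqa]; group
    rcases h.brack q0 hq0 a ha with e | e
    · rcases hstep a ha hax (commutatorElement_eq_one_iff_mul_comm.1 e) with e | e
      · exact Or.inl e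
      · exact Or.inr (Or.inl e)
    · have hqa : q0 * a = z * (a * q0) := by rw [← e, commutatorElement_def]; group
      have : q0 * (a * x) = a * x * q0 := by
        calc q0 * (a * x) = (z * (a * q0)) * x := by rw [← hqa]; group
          _ = z * a * (z * (x * q0)) := by rw [← hqx']; group
          _ = z * (a * z) * (x * q0) := by group
          _ = z * (z * a) * (x * q0) := by rw [h.comm a ha]
          _ = a * x * q0 := by rw [← mul_assoc z z, h.sq]; group
      rcases hstep (a * x) (mul_mem ha hx) (by rw [mul_assoc, ← mul_assoc x a x, ← hax]; group) this with e | e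
      · exact Or.inr (Or.inr (Or.inl (by
          calc a = a * x * x := by rw [mul_assoc, hxx, mul_one]
            _ = x := by rw [e, one_mul])))
      · exact Or.inr (Or.inr (Or.inr (by
          calc a = a * x * x := by rw [mul_assoc, hxx, mul_one]
            _ = z * x := by rw [e]
            _ = x * z := (h.comm x hx).symm)))
  have hzx : z * x = x * z := (h.comm x hx).symm
  -- an element u of square z outside the centralizer
  obtain ⟨u, hu, hux, huu⟩ : ∃ u ∈ E, u * x = z * (x * u) ∧ u * u = z := by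
    rcases h.square q0 hq0 with e | e
    · refine ⟨q0 * x, mul_mem hq0 hx, ?_, ?_⟩
      · calc q0 * x * x = z * (x * q0) * x := by rw [hqx']
          _ = _ := by group
      · calc q0 * x * (q0 * x) = z * (x * q0) * (q0 * x) := by rw [← hqx']
          _ = z * x * (q0 * q0) * x := by group
          _ = z := by rw [e, mul_one, mul_assoc, hxx, mul_one]
    · exact ⟨q0, hq0, hqx', e⟩
  have hcoset : ∀ v ∈ E, v * x = z * (x * v) → ∃ a ∈ E, a * x = x * a ∧ v = u * a := by
    intro v hv hvx
    refine ⟨u⁻¹ * v, mul_mem (inv_mem hu) hv, ?_, by group⟩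
    calc u⁻¹ * v * x = u⁻¹ * (z * (x * v)) := by rw [mul_assoc, hvx]
      _ = u⁻¹ * (z * (x * u)) * (u⁻¹ * v) := by group
      _ = u⁻¹ * (u * x) * (u⁻¹ * v) := by rw [hux]
      _ = _ := by group
  have huz : u * z = z * u := h.comm u hu
  -- elements of square z are u and u z
  have hsqz : ∀ v ∈ E, v * v = z → v = u ∨ v = u * z := by
    intro v hv hvv
    rcases h.brack v hv x hx with e | e
    · exfalso
      rcases hP v hv (commutatorElement_eq_one_iff_mul_comm.1 e) with e' | e' | e' | e' <;>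
        rw [e'] at hvv
      · exact h.ne (by simpa using hvv.symm)
      · exact h.ne (hvv.symm.trans h.sq)
      · exact h.ne (hvv.symm.trans hxx)
      · refine h.ne (hvv.symm.trans ?_)
        calc x * z * (x * z) = x * (z * x) * z := by group
          _ = x * x * (z * z) := by rw [hzx]; group
          _ = 1 := by rw [hxx, h.sq, one_mul]
    · have hvx : v * x = z * (x * v) := by rw [← e, commutatorElement_def]; group
      obtain ⟨a, ha, hax, rfl⟩ := hcoset v hv hvx
      rcases hP a ha hax with e' | e' | e' | e' <;> rw [e'] at hvv ⊢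
      · exact Or.inl (mul_one u)
      · exact Or.inr rfl
      · exfalso
        apply h.ne
        calc z = u * x * (u * x) := hvv.symm
          _ = z * (x * u) * (u * x) := by rw [← hux]
          _ = z * x * (u * u) * x := by group
          _ = z * (x * z) * x := by rw [huu]; group
          _ = z * (z * x) * x := by rw [hzx]
          _ = (z * z) * (x * x) := by group
          _ = 1 := by rw [h.sq, hxx, one_mul]
      · exfalso
        apply h.ne
        calc z = u * (x * z) * (u * (x * z)) := hvv.symm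
          _ = u * x * (z * u) * x * z := by group
          _ = u * x * u * (z * x) * z := by rw [← huz]; group
          _ = u * x * u * x * (z * z) := by rw [hzx]; group
          _ = z * (x * u) * u * x := by rw [h.sq, mul_one, hux]
          _ = z * x * (u * u) * x := by group
          _ = z * (x * z) * x := by rw [huu]; group
          _ = z * (z * x) * x := by rw [hzx]
          _ = (z * z) * (x * x) := by group
          _ = 1 := by rw [h.sq, hxx, one_mul]
  have hz2 : ∀ j : ℕ, Odd j → z ^ j = z := by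
    rintro j ⟨k, rfl⟩
    rw [pow_succ, pow_mul, pow_two, h.sq, one_pow, one_mul]
  have hzcz : c * z * c⁻¹ = z := by rw [hc]; group
  -- c fixes u
  have hcu : c * u * c⁻¹ = u := by
    rcases hsqz (c * u * c⁻¹) (h.norm c hc u hu) (by
        calc c * u * c⁻¹ * (c * u * c⁻¹) = c * (u * u) * c⁻¹ := by group
          _ = z := by rw [huu, hzcz]) with e | e
    · exact e
    exfalso
    have key : ∀ j : ℕ, c ^ j * u * (c ^ j)⁻¹ = u * z ^ j := by
      intro j
      induction j with
      | zero => simp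
      | succ j ih =>
        have hz' : c * z ^ j * c⁻¹ = z ^ j := by rw [← conj_pow, hzcz]
        rw [pow_succ' c j, mul_inv_rev]
        calc c * c ^ j * u * ((c ^ j)⁻¹ * c⁻¹) = c * (c ^ j * u * (c ^ j)⁻¹) * c⁻¹ := by group
          _ = (c * u * c⁻¹) * (c * z ^ j * c⁻¹) := by rw [ih]; group
          _ = u * z * z ^ j := by rw [e, hz']
          _ = u * z ^ (j + 1) := by rw [pow_succ']; group
    have := key m
    rw [hcm, hz2 m hm] at this
    simp at this
    exact h.ne (by simpa using this)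
  -- hence c fixes x
  have hcx : c * x * c⁻¹ = x := by
    have hm' := h.norm c hc x hx
    have hnc : (c * x * c⁻¹) * u ≠ u * (c * x * c⁻¹) := by
      intro e
      have : x * u = u * x := by
        calc x * u = c⁻¹ * ((c * x * c⁻¹) * (c * u * c⁻¹)) * c := by group
          _ = c⁻¹ * ((c * u * c⁻¹) * (c * x * c⁻¹)) * c := by rw [hcu, e]
          _ = u * x := by group
      exact h.ne (mul_eq_right.1 (hux.symm.trans this.symm))
    set y := c * x * c⁻¹
    -- write y = x * d with d commuting with c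
    obtain ⟨d, hyd, hdc⟩ : ∃ d, y = x * d ∧ c * d * c⁻¹ = d ∧ (d = 1 ∨ d = z ∨ d = u ∨ d = u * z) := by
      rcases h.brack y hm' x hx with e | e
      · rcases hP y hm' (commutatorElement_eq_one_iff_mul_comm.1 e) with e' | e' | e' | e'
        · exact absurd (by rw [e']; simp) hnc
        · exact absurd (by rw [e', huz]) hnc
        · exact ⟨1, by rw [e', mul_one], by simp, Or.inl rfl⟩
        · exact ⟨z, e', hzcz, Or.inr (Or.inl rfl)⟩
      · have hyx : y * x = z * (x * y) := by rw [← e, commutatorElement_def]; group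
        obtain ⟨a, ha, hax, hya⟩ := hcoset y hm' hyx
        rcases hP a ha hax with e' | e' | e' | e' <;> rw [e'] at hya
        · exact absurd (by rw [hya, mul_one]) hnc
        · exact absurd (by rw [hya, mul_assoc, ← huz]) hnc
        · refine ⟨u * z, ?_, by rw [show c * (u * z) * c⁻¹ = (c * u * c⁻¹) * (c * z * c⁻¹) by group, hcu, hzcz], Or.inr (Or.inr (Or.inr rfl))⟩
          rw [hya, hux, huz]
          calc z * (x * u) = (z * x) * u := by group
            _ = x * (z * u) := by rw [hzx]; group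
        · refine ⟨u, ?_, hcu, Or.inr (Or.inr (Or.inl rfl))⟩
          rw [hya, ← mul_assoc u x z, hux]
          calc z * (x * u) * z = z * x * (u * z) := by group
            _ = z * (x * z) * u := by rw [huz]; group
            _ = z * (z * x) * u := by rw [hzx]
            _ = (z * z) * (x * u) := by group
            _ = x * u := by rw [h.sq, one_mul]
    have key : ∀ j : ℕ, c ^ j * x * (c ^ j)⁻¹ = x * d ^ j := by
      intro j
      induction j with
      | zero => simp
      | succ j ih =>
        have hd' : c * d ^ j * c⁻¹ = d ^ j := by rw [← conj_pow, hdc.1]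
        rw [pow_succ' c j, mul_inv_rev]
        calc c * c ^ j * x * ((c ^ j)⁻¹ * c⁻¹) = c * (c ^ j * x * (c ^ j)⁻¹) * c⁻¹ := by group
          _ = y * (c * d ^ j * c⁻¹) := by rw [ih]; simp only [y]; group
          _ = x * d ^ (j + 1) := by rw [hd', hyd, pow_succ', mul_assoc]
    have hd4 : d ^ 4 = 1 := by
      have hz4 : z ^ 4 = 1 := by rw [show (4 : ℕ) = 2 * 2 from rfl, pow_mul, pow_two z, h.sq, one_pow]
      have hu4 : u ^ 4 = 1 := by
        rw [show (4 : ℕ) = 2 * 2 from rfl, pow_mul, pow_two u, huu, pow_two, h.sq]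
      rcases hdc.2 with rfl | rfl | rfl | rfl
      · simp
      · exact hz4
      · exact hu4
      · rw [Commute.mul_pow huz, hu4, hz4, one_mul]
    have hdm : d ^ m = 1 := by
      have := key m
      rw [hcm] at this
      simpa using this.symm
    have hd : d = 1 := by
      have hcop : Nat.Coprime 4 m := by
        rw [show (4 : ℕ) = 2 ^ 2 from rfl]
        exact (Nat.coprime_two_left.2 hm).pow_left 2
      have := pow_gcd_eq_one.2 ⟨hd4, hdm⟩
      rwa [hcop.gcd_eq_one, pow_one] at this
    rw [hyd, hd, mul_one]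
  -- c centralizes E
  have hcE : c ∈ E := by
    refine h.small c fun q hq => ?_
    have hconj : ∀ a : G, c * a * c⁻¹ = a → a * c = c * a := fun a e => by
      calc a * c = (c * a * c⁻¹) * c := by rw [e]
        _ = c * a := by group
    have hPc : ∀ a ∈ E, a * x = x * a → a * c = c * a := by
      intro a ha hax
      rcases hP a ha hax with e' | e' | e' | e' <;> rw [e']
      · simp
      · exact hc.symm
      · exact hconj x hcx
      · exact (Commute.mul_left (hconj x hcx) hc.symm)
    rcases h.brack q hq x hx with e | e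
    · exact hPc q hq (commutatorElement_eq_one_iff_mul_comm.1 e)
    · obtain ⟨a, ha, hax, rfl⟩ :=
        hcoset q hq (by rw [← e, commutatorElement_def]; group)
      exact Commute.mul_left (hconj u hcu) (hPc a ha hax)
  have hc4 : c ^ 4 = 1 := by
    rw [show (4 : ℕ) = 2 * 2 from rfl, pow_mul, pow_two c]
    rcases h.square c hcE with e | e
    · rw [e, one_pow]
    · rw [e, pow_two, h.sq]
  have hcop : Nat.Coprime 4 m := by
    rw [show (4 : ℕ) = 2 ^ 2 from rfl]
    exact (Nat.coprime_two_left.2 hm).pow_left 2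
  have := pow_gcd_eq_one.2 ⟨hc4, hcm⟩
  rwa [hcop.gcd_eq_one, pow_one] at this

theorem cent_cases (h : CoreLike z E) (hx : x ∈ E) (hxx : x * x = 1) (hx1 : x ≠ 1) (hxz : x ≠ z)
    {i : G} (hi : i ∈ E) (hall : ∀ a ∈ E, a * x = x * a → a * i = i * a) :
    i = 1 ∨ i = z ∨ i = x ∨ i = x * z := by
  obtain ⟨q0, hq0, hq0x⟩ : ∃ q ∈ E, q * x ≠ x * q := by
    by_contra hn
    push_neg at hn
    rcases h.center x hx hn with e | e
    · exact hx1 e
    · exact hxz e
  have hqx : ⁅q0, x⁆ = z := (h.brack q0 hq0 x hx).resolve_left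
    fun e => hq0x (commutatorElement_eq_one_iff_mul_comm.1 e)
  have hqx' : q0 * x = z * (x * q0) := by rw [← hqx, commutatorElement_def]; group
  have step : ∀ j ∈ E, (∀ a ∈ E, a * x = x * a → a * j = j * a) → q0 * j = j * q0 →
      j = 1 ∨ j = z := by
    intro j hj hja hjq
    refine h.center j hj fun q hq => ?_
    rcases h.brack q hq x hx with e | e
    · exact hja q hq (commutatorElement_eq_one_iff_mul_comm.1 e)
    · have e2 : q * x = z * (x * q) := by rw [← e, commutatorElement_def]; group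
      have hq' : (q0⁻¹ * q) * x = x * (q0⁻¹ * q) := by
        calc q0⁻¹ * q * x = q0⁻¹ * (z * (x * q)) := by rw [mul_assoc, e2]
          _ = q0⁻¹ * (z * (x * q0)) * (q0⁻¹ * q) := by group
          _ = q0⁻¹ * (q0 * x) * (q0⁻¹ * q) := by rw [hqx']
          _ = _ := by group
      have e3 := hja _ (mul_mem (inv_mem hq0) hq) hq'
      calc q * j = q0 * (q0⁻¹ * q * j) := by group
        _ = q0 * j * (q0⁻¹ * q) := by rw [e3]; group
        _ = j * q := by rw [hjq]; group
  rcases h.brack q0 hq0 i hi with e | e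
  · rcases step i hi hall (commutatorElement_eq_one_iff_mul_comm.1 e) with e | e
    · exact Or.inl e
    · exact Or.inr (Or.inl e)
  · have hqa : q0 * i = z * (i * q0) := by rw [← e, commutatorElement_def]; group
    have hswap : q0 * (i * x) = i * x * q0 := by
      calc q0 * (i * x) = (z * (i * q0)) * x := by rw [← hqa]; group
        _ = z * i * (z * (x * q0)) := by rw [← hqx']; group
        _ = z * (i * z) * (x * q0) := by group
        _ = z * (z * i) * (x * q0) := by rw [h.comm i hi]
        _ = i * x * q0 := by rw [← mul_assoc z z, h.sq]; group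
    rcases step (i * x) (mul_mem hi hx) (fun a ha hax => by
      rw [← mul_assoc, hall a ha hax, mul_assoc, hax, mul_assoc]) hswap with e | e
    · exact Or.inr (Or.inr (Or.inl (by
        calc i = i * x * x := by rw [mul_assoc, hxx, mul_one]
          _ = x := by rw [e, one_mul])))
    · exact Or.inr (Or.inr (Or.inr (by
        calc i = i * x * x := by rw [mul_assoc, hxx, mul_one]
          _ = z * x := by rw [e]
          _ = x * z := (h.comm x hx).symm)))

end CoreLike

theorem CoreLike.symm_mem' {z x g : G} {E : Subgroup G} (h : CoreLike z E) (hg : g * z * g⁻¹ = x)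
    (hx : x ∈ E) (hxz : x ≠ z) {a b : G} (ha : a ∈ E) (hb : b ∈ E) (hax : a * x = x * a)
    (hbx : b * x = x * b) (hne : a * b ≠ b * a) : z ∈ LocalEven.cj g E := by
  set F := LocalEven.cj g E with hF
  have hX : CoreLike x F := by
    have := h.conj g
    rwa [hg] at this
  have hxx := hX.sq
  have hx1 := hX.ne
  by_contra hzF
  have hzz := h.sq
  have hzx : z * x = x * z := (h.comm x hx).symm
  have hzi : z⁻¹ = z := inv_eq_of_mul_eq_one_right hzz
  have hxi : x⁻¹ = x := inv_eq_of_mul_eq_one_right hxx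
  have hPF : ∀ a ∈ E, a * x = x * a → ∀ q ∈ F, a * q * a⁻¹ ∈ F := fun a _ hax => hX.norm a hax
  have hzF' : ∀ q ∈ F, z * q * z ∈ F := fun q hq => by
    simpa [hzi] using hX.norm z hzx q hq
  -- no element of F moves z to x z
  have no_x : ∀ q ∈ F, q * z * q⁻¹ ≠ x * z := by
    intro q hq e
    obtain ⟨q0, hq0, hq0x⟩ : ∃ q ∈ E, q * x ≠ x * q := by
      by_contra hn
      push_neg at hn
      rcases h.center x hx hn with e | e
      · exact hx1 e
      · exact hxz e
    have hqx : ⁅q0, x⁆ = z := (h.brack q0 hq0 x hx).resolve_left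
      fun e => hq0x (commutatorElement_eq_one_iff_mul_comm.1 e)
    have e1 : q0 * x * q0⁻¹ = z * x := by rw [← hqx, commutatorElement_def]; group
    have e2 : q0 * z * q0⁻¹ = z := by rw [h.comm q0 hq0]; group
    have e3 : q * x * q⁻¹ = x := by rw [hX.comm q hq]; group
    have ez : (q0 * q * q0) * z * (q0 * q * q0)⁻¹ = x := by
      calc (q0 * q * q0) * z * (q0 * q * q0)⁻¹ = q0 * (q * (q0 * z * q0⁻¹) * q⁻¹) * q0⁻¹ := by group
        _ = q0 * (x * z) * q0⁻¹ := by rw [e2, e]
        _ = (q0 * x * q0⁻¹) * (q0 * z * q0⁻¹) := by group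
        _ = z * (x * z) := by rw [e1, e2, mul_assoc]
        _ = x := by rw [← hzx, ← mul_assoc, hzz, one_mul]
    have ex : (q0 * q * q0) * x * (q0 * q * q0)⁻¹ = z := by
      calc (q0 * q * q0) * x * (q0 * q * q0)⁻¹ = q0 * (q * (q0 * x * q0⁻¹) * q⁻¹) * q0⁻¹ := by group
        _ = q0 * ((q * z * q⁻¹) * (q * x * q⁻¹)) * q0⁻¹ := by rw [e1]; group
        _ = q0 * (x * (z * x)) * q0⁻¹ := by rw [e, e3, mul_assoc x z x]
        _ = q0 * z * q0⁻¹ := by rw [hzx, ← mul_assoc x x, hxx, one_mul]
        _ = z := e2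
    apply hzF
    set k := q0 * q * q0
    have hc : g⁻¹ * k * z = z * (g⁻¹ * k) := by
      have e4 : k * z = g * z * g⁻¹ * k := by rw [hg, ← ez]; group
      rw [mul_assoc, e4]; group
    refine LocalEven.mem_cj.2 ?_
    have hkk : k⁻¹ * z * k ∈ E → g⁻¹ * z * g ∈ E := fun hm => by
      have := h.norm (g⁻¹ * k) hc _ hm
      have e5 : g⁻¹ * k * (k⁻¹ * z * k) * (g⁻¹ * k)⁻¹ = g⁻¹ * z * g := by group
      rwa [e5] at this
    refine hkk ?_
    have e6 : k⁻¹ * z * k = x := by
      nth_rewrite 1 [← ex]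
      simp [mul_assoc]
    rwa [e6]
  -- z moves v by an element commuting with z
  have hmove : ∀ v ∈ F, z * v * z * v⁻¹ ∈ F ∧ z * (z * v * z * v⁻¹) = z * v * z * v⁻¹ * z := by
    intro v hv
    set e := z * v * z * v⁻¹ with he
    have heF : e ∈ F := mul_mem (hzF' v hv) (inv_mem hv)
    refine ⟨heF, ?_⟩
    have h1 : z * e * z = e⁻¹ := by
      calc z * e * z = (z * z) * (v * z * v⁻¹ * z) := by rw [he]; group
        _ = v * z⁻¹ * v⁻¹ * z⁻¹ := by rw [hzz, one_mul, hzi]
        _ = e⁻¹ := by rw [he]; group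
    rcases hX.square e heF with h2 | h2
    · rw [inv_eq_of_mul_eq_one_right h2] at h1
      calc z * e = z * e * (z * z) := by rw [hzz, mul_one]
        _ = (z * e * z) * z := by group
        _ = e * z := by rw [h1]
    · exfalso
      refine no_x e⁻¹ (inv_mem heF) ?_
      rw [inv_inv]
      calc e⁻¹ * z * e = e⁻¹ * (z * e * z) * z⁻¹ := by group
        _ = (e * e)⁻¹ * z⁻¹ := by rw [h1]; group
        _ = x * z := by rw [h2, hxi, hzi]
  -- elements of E and F
  have hI : ∀ i ∈ E, i ∈ F → i = 1 ∨ i = x := by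
    intro i hi hiF
    have hall : ∀ a ∈ E, a * x = x * a → a * i = i * a := by
      intro a ha hax
      rcases h.brack a ha i hi with e | e
      · exact commutatorElement_eq_one_iff_mul_comm.1 e
      · refine absurd ?_ hzF
        rw [← e, commutatorElement_def]
        exact mul_mem (hPF a ha hax i hiF) (inv_mem hiF)
    rcases h.cent_cases hx hxx hx1 hxz hi hall with e | e | e | e
    · exact Or.inl e
    · exact absurd (e ▸ hiF) hzF
    · exact Or.inr e
    · refine absurd ?_ hzF
      have := mul_mem hX.mem (e ▸ hiF)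
      rwa [← mul_assoc, hxx, one_mul] at this
  have hR : ∀ r ∈ F, z * r = r * z → ∀ a ∈ E, a * x = x * a →
      a * r * a⁻¹ = r ∨ a * r * a⁻¹ = x * r := by
    intro r hr hrz a ha hax
    have h1 : a * r * a⁻¹ * r⁻¹ ∈ F := mul_mem (hPF a ha hax r hr) (inv_mem hr)
    have h2 : a * r * a⁻¹ * r⁻¹ ∈ E := by
      have := mul_mem ha (h.norm r hrz.symm a⁻¹ (inv_mem ha))
      simpa [mul_assoc] using this
    rcases hI _ h2 h1 with e | e
    · exact Or.inl (mul_inv_eq_one.1 e)
    · exact Or.inr (mul_inv_eq_iff_eq_mul.1 e)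
  -- perpendicular elements commute with z
  have hperp : ∀ d ∈ F, (∀ r ∈ F, z * r = r * z → d * r = r * d) → z * d = d * z := by
    intro d hd hdr
    set d' := z * d * z with hd'
    have hd'F : d' ∈ F := hzF' d hd
    have hcomm : ∀ v ∈ F, v * (d⁻¹ * d') = d⁻¹ * d' * v := by
      intro v hv
      obtain ⟨heF, hez⟩ := hmove v hv
      set e := z * v * z * v⁻¹ with he
      have hde : d * e = e * d := hdr e heF hez
      have hd'e : d' * e = e * d' := by
        calc d' * e = z * d * (z * e) := by rw [hd']; group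
          _ = z * (d * e) * z := by rw [hez]; group
          _ = (z * e) * d * z := by rw [hde]; group
          _ = e * d' := by rw [hez, hd']; group
      have hev : e * v = z * v * z := by rw [he]; group
      have hcc : d' * (z * v * z) * d'⁻¹ * (z * v * z)⁻¹ = z * (d * v * d⁻¹ * v⁻¹) * z := by
        rw [hd']
        simp only [mul_inv_rev, hzi, mul_assoc]
        simp only [← mul_assoc z z, hzz, one_mul, mul_assoc]
      have hdv : z * (d * v * d⁻¹ * v⁻¹) * z = d * v * d⁻¹ * v⁻¹ := by
        rcases hX.brack d hd v hv with e' | e' <;> rw [commutatorElement_def] at e' <;> rw [e']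
        · rw [mul_one, hzz]
        · rw [hzx, mul_assoc, hzz, mul_one]
      rw [hdv, ← hev] at hcc
      have hce : d * v * d⁻¹ * v⁻¹ * e = e * (d * v * d⁻¹ * v⁻¹) := by
        rcases hX.brack d hd v hv with e' | e' <;> rw [commutatorElement_def] at e' <;> rw [e']
        · simp
        · exact (hX.comm e heF).symm
      have e5 : d' * v * d'⁻¹ = d * v * d⁻¹ := by
        refine mul_left_cancel (a := e) ?_
        calc e * (d' * v * d'⁻¹) = (e * d') * v * d'⁻¹ := by group
          _ = d' * (e * v) * d'⁻¹ * (e * v)⁻¹ * (e * v) := by rw [← hd'e]; group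
          _ = d * v * d⁻¹ * v⁻¹ * e * v := by rw [hcc]; group
          _ = e * (d * v * d⁻¹) := by rw [hce]; group
      calc v * (d⁻¹ * d') = d⁻¹ * (d * v * d⁻¹) * d' := by group
        _ = d⁻¹ * (d' * v * d'⁻¹) * d' := by rw [e5]
        _ = _ := by group
    rcases hX.center _ (mul_mem (inv_mem hd) hd'F) hcomm with e | e
    · have e' : z * d * z = d := (inv_mul_eq_one.1 e).symm
      calc z * d = z * d * (z * z) := by rw [hzz, mul_one]
        _ = (z * d * z) * z := by group
        _ = d * z := by rw [e']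
    · exfalso
      refine no_x d hd ?_
      have e' : z * d * z = d * x := inv_mul_eq_iff_eq_mul.1 e
      calc d * z * d⁻¹ = d * (z * d * z)⁻¹ * z := by simp [mul_inv_rev, hzi, hzz, mul_assoc]
        _ = d * (d * x)⁻¹ * z := by rw [e']
        _ = x * z := by rw [mul_inv_rev, hxi, ← mul_assoc d x, hX.comm d hd]; group
  have halpha : ∀ a ∈ E, a * x = x * a → ∀ q ∈ F,
      z * (q⁻¹ * (a * q * a⁻¹)) = q⁻¹ * (a * q * a⁻¹) * z := by
    intro a ha hax q hq
    refine hperp _ (mul_mem (inv_mem hq) (hPF a ha hax q hq)) fun r hr hrz => ?_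
    set q' := a * q * a⁻¹ with hq'
    have e : q' * r * q'⁻¹ = q * r * q⁻¹ := by
      have e0 : q' * (a * r * a⁻¹) * q'⁻¹ * (a * r * a⁻¹)⁻¹ = q * r * q⁻¹ * r⁻¹ := by
        have hfix : a * (q * r * q⁻¹ * r⁻¹) * a⁻¹ = q * r * q⁻¹ * r⁻¹ := by
          rcases hX.brack q hq r hr with e | e <;> rw [commutatorElement_def] at e <;> rw [e]
          · group
          · rw [hax]; group
        rw [← hfix, hq']; group
      have e1 : q' * r * q'⁻¹ * r⁻¹ = q * r * q⁻¹ * r⁻¹ := by
        rcases hR r hr hrz a ha hax with e | e <;> rw [e] at e0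
        · exact e0
        · rw [← e0]
          have hq'F : q' ∈ F := hPF a ha hax q hq
          calc q' * r * q'⁻¹ * r⁻¹ = (x * q') * (r * q'⁻¹ * r⁻¹) * x⁻¹ := by
                rw [show x * q' * (r * q'⁻¹ * r⁻¹) = x * (q' * r * q'⁻¹ * r⁻¹) by group,
                  ← hX.comm _ (mul_mem (mul_mem (mul_mem hq'F hr) (inv_mem hq'F)) (inv_mem hr))]
                group
            _ = _ := by rw [← hX.comm q' hq'F]; group
      exact mul_right_cancel e1
    calc q⁻¹ * q' * r = q⁻¹ * (q' * r * q'⁻¹) * q' := by group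
      _ = q⁻¹ * (q * r * q⁻¹) * q' := by rw [e]
      _ = _ := by group
  -- z centralizes F
  refine hzF (hX.small z fun q hq => ?_)
  have hab' : a * b = z * (b * a) := by
    rw [← (h.brack a ha b hb).resolve_left fun e => hne (commutatorElement_eq_one_iff_mul_comm.1 e),
      commutatorElement_def]
    group
  set α := q⁻¹ * (a * q * a⁻¹) with hα
  set β := q⁻¹ * (b * q * b⁻¹) with hβ
  have hαF : α ∈ F := mul_mem (inv_mem hq) (hPF a ha hax q hq)
  have hβF : β ∈ F := mul_mem (inv_mem hq) (hPF b hb hbx q hq)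
  have hαz := halpha a ha hax q hq
  have hβz := halpha b hb hbx q hq
  rw [← hα] at hαz
  rw [← hβ] at hβz
  have h12 : ∀ (a : G), a ∈ E → a * x = x * a → ∀ r ∈ F, z * r = r * z →
      ∃ ζ, (ζ = 1 ∨ ζ = x) ∧ a * r * a⁻¹ = ζ * r := by
    intro a ha hax r hr hrz
    rcases hR r hr hrz a ha hax with e | e
    · exact ⟨1, Or.inl rfl, by rw [e, one_mul]⟩
    · exact ⟨x, Or.inr rfl, e⟩
  obtain ⟨ζ₁, hζ₁, e1⟩ := h12 a ha hax β hβF hβz
  obtain ⟨ζ₂, hζ₂, e2⟩ := h12 b hb hbx α hαF hαz
  have hζ : ∀ {ζ : G}, ζ = 1 ∨ ζ = x → (∀ r ∈ F, r * ζ = ζ * r) ∧ z * ζ = ζ * z ∧ ζ ∈ F := by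
    rintro ζ (rfl | rfl)
    · simp
    · exact ⟨hX.comm, hzx, hX.mem⟩
  have eA : a * b * q * (a * b)⁻¹ = q * α * (ζ₁ * β) := by
    rw [← e1, hα, hβ]; group
  have eB : b * a * q * (b * a)⁻¹ = q * β * (ζ₂ * α) := by
    rw [← e2, hα, hβ]; group
  have eA' : a * b * q * (a * b)⁻¹ = z * (q * β * (ζ₂ * α)) * z := by
    rw [← eB, hab']; simp [mul_inv_rev, hzi, mul_assoc]
  have hpush : z * (q * β * (ζ₂ * α)) * z = (z * q * z) * (β * (ζ₂ * α)) := by
    have hcz : z * (β * (ζ₂ * α)) = (β * (ζ₂ * α)) * z := by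
      calc z * (β * (ζ₂ * α)) = β * (z * ζ₂) * α := by rw [← mul_assoc, hβz]; group
        _ = β * ζ₂ * (z * α) := by rw [(hζ hζ₂).2.1]; group
        _ = _ := by rw [hαz]; group
    calc z * (q * β * (ζ₂ * α)) * z = z * q * ((β * (ζ₂ * α)) * z) := by group
      _ = _ := by rw [← hcz]; group
  rw [eA, hpush] at eA'
  have hcα : ∃ ζ₃, (ζ₃ = 1 ∨ ζ₃ = x) ∧ α * β = ζ₃ * (β * α) := by
    rcases hX.brack α hαF β hβF with e | e <;> rw [commutatorElement_def] at e
    · exact ⟨1, Or.inl rfl, by rw [one_mul]; exact commutatorElement_eq_one_iff_mul_comm.1 e⟩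
    · exact ⟨x, Or.inr rfl, by rw [← e]; group⟩
  obtain ⟨ζ₃, hζ₃, e3⟩ := hcα
  have hζ2i : ∀ {ζ : G}, ζ = 1 ∨ ζ = x → ζ * ζ = 1 := by
    rintro ζ (rfl | rfl)
    · simp
    · exact hxx
  have eT : z * q * z = q * (ζ₁ * ζ₃ * ζ₂) := by
    have e4 : q * α * (ζ₁ * β) = q * (ζ₁ * ζ₃ * ζ₂) * (β * (ζ₂ * α)) := by
      have h1 : α * (ζ₁ * β) = ζ₁ * (α * β) := by
        rw [← mul_assoc, (hζ hζ₁).1 α hαF]; group
      have h2 : ζ₂ * (β * (ζ₂ * α)) = β * α := by
        rw [← mul_assoc, ← (hζ hζ₂).1 β hβF, mul_assoc, ← mul_assoc ζ₂, hζ2i hζ₂, one_mul]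
      calc q * α * (ζ₁ * β) = q * (ζ₁ * (α * β)) := by rw [mul_assoc, h1]
        _ = q * (ζ₁ * (ζ₃ * (ζ₂ * (β * (ζ₂ * α))))) := by rw [h2, e3]
        _ = _ := by group
    rw [e4] at eA'
    exact (mul_right_cancel eA').symm
  have hprod : ζ₁ * ζ₃ * ζ₂ = 1 ∨ ζ₁ * ζ₃ * ζ₂ = x := by
    rcases hζ₁ with rfl | rfl <;> rcases hζ₂ with rfl | rfl <;> rcases hζ₃ with rfl | rfl <;>
      simp [hxx]
  rcases hprod with e | e <;> rw [e] at eT
  · calc q * z = z * (z * q) * z := by rw [← mul_assoc, hzz, one_mul]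
      _ = z * (z * q * z) := by group
      _ = z * q := by rw [eT, mul_one]
  · exfalso
    refine no_x q hq ?_
    calc q * z * q⁻¹ = q * (z * q * z)⁻¹ * z := by simp [mul_inv_rev, hzi, hzz, mul_assoc]
      _ = q * (q * x)⁻¹ * z := by rw [eT]
      _ = x * z := by rw [mul_inv_rev, hxi, ← mul_assoc q x, hX.comm q hq]; group


/-- If a conjugate `x` of `z` lies in `O₂(C(z))`, then `z` lies in `O₂(C(x))`. -/
theorem CoreAt.symm_mem {z x g : G} {E F : Subgroup G} (h : CoreAt z E) (hg : g * z * g⁻¹ = x)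
    (hx : x ∈ E)
    (hF : F = (pCore 2 ↥(Subgroup.centralizer ({x} : Set G))).map
      (Subgroup.centralizer ({x} : Set G)).subtype) : z ∈ F := by
  haveI := Fact.mk Nat.prime_two
  by_cases hxz : x = z
  · rw [hF, hxz, ← h.core]; exact h.mem
  have hX : CoreAt x F := by
    have := h.conj g
    rwa [hg, ← hF] at this
  have hxx := hX.sq
  have hx1 := hX.ne
  by_cases hab : ∀ a ∈ E, ∀ b ∈ E, a * x = x * a → b * x = x * b → a * b = b * a
  · -- the centralizer of z is a 2-group, so is that of x
    have h2 : ∀ c : G, c * z = z * c → ∃ k : ℕ, orderOf c = 2 ^ k := by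
      intro c hc
      obtain ⟨k, m, hm, hkm⟩ := Nat.exists_eq_two_pow_mul_odd (orderOf_pos c).ne'
      refine ⟨k, ?_⟩
      have := h.toCoreLike.odd_order_trivial hx hxx hx1 hxz hab (c := c ^ 2 ^ k)
        ((Commute.pow_left hc _)) hm (by rw [← pow_mul, ← hkm, pow_orderOf_eq_one])
      exact Nat.dvd_antisymm (orderOf_dvd_of_pow_eq_one this) ⟨m, hkm⟩
    have hp : IsPGroup 2 ↥(Subgroup.centralizer ({x} : Set G)) := by
      rw [IsPGroup.iff_orderOf]
      rintro ⟨c, hc⟩
      have hc' := mem_cent_singleton.1 hc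
      obtain ⟨k, hk⟩ := h2 (g⁻¹ * c * g) (by
        calc g⁻¹ * c * g * z = g⁻¹ * (c * (g * z * g⁻¹)) * g := by group
          _ = g⁻¹ * (g * z * g⁻¹ * c) * g := by rw [hg, hc']
          _ = _ := by group)
      refine ⟨k, ?_⟩
      rw [Subgroup.orderOf_mk, ← hk, ← (MulAut.conj g⁻¹).orderOf_eq c]
      simp
    have htop : pCore 2 ↥(Subgroup.centralizer ({x} : Set G)) = ⊤ :=
      top_le_iff.1 (Core.le_pCore inferInstance
        (hp.of_equiv Subgroup.topEquiv.symm))
    rw [hF, htop, ← MonoidHom.range_eq_map, Subgroup.range_subtype]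
    exact mem_cent_singleton.2 (h.comm x hx).symm
  push_neg at hab
  obtain ⟨a, ha, b, hb, hax, hbx, hne⟩ := hab
  rw [hF, ← hg, core_conj, ← h.core]
  exact h.toCoreLike.symm_mem' hg hx hxz ha hb hax hbx hne

end Cfsg.Agent.Fischer
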