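import Cfsg.Prelude.Def_SporadicB
import Cfsg.Agent.Screen.CosetEnum.PresFi22
import Cfsg.Agent.Screen.CosetEnum.OrderGlue
import Cfsg.Agent.Screen.CosetEnum.Fi22U62.Checked
import Cfsg.Agent.Screen.CosetEnum.Fi22U62.Orbits

/-!
# The transposition class of the presented Fischer group Fi22

The conjugates of the first generator form a class of 3510 three-transpositions whose centralisers are the
conjugates of the subgroup of index 3510 of the coset table.
-/

set_option autoImplicit false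
set_option maxRecDepth 20000

namespace Cfsg.Agent.Fischer.Fi22Transp

open Cfsg Cfsg.Agent.Screen.CosetEnum

local notation "σ" => PresFi22.gens

/-- The subgroup of the table. -/
def U : Subgroup Spor.Fi22 := Subgroup.closure {g | ∃ w ∈ Fi22U62.tbl.subs, g = evalW PresFi22.gens w}

theorem subs_commute :
    (Fi22U62.tbl.subs.all fun w =>
      Fi22U62.tbl.fixesAll (w ++ [0] ++ w.reverse ++ [0]) Fi22U62.tbl.n) = true := by
  decide +kernel

/-- Which orbit a point lies in. -/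
def coverGo : ℕ → Bool
  | 0 => true
  | c + 1 => (Nat.beq c 0 || bit Fi22U62.orb0 c || bit Fi22U62.orb1 c) && coverGo c

theorem coverGo_spec : ∀ {k : ℕ}, coverGo k = true → ∀ c < k,
    c = 0 ∨ bit Fi22U62.orb0 c = true ∨ bit Fi22U62.orb1 c = true
  | 0, _, c, hc => absurd hc (Nat.not_lt_zero c)
  | k + 1, h, c, hc => by
    simp only [coverGo, Bool.and_eq_true, Bool.or_eq_true] at h
    rcases Nat.lt_or_ge c k with hc' | hc'
    · exact coverGo_spec h.2 c hc'
    · obtain rfl : c = k := by omega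
      rcases h.1 with (h | h) | h
      · exact Or.inl (Nat.eq_of_beq_eq_true h)
      · exact Or.inr (Or.inl h)
      · exact Or.inr (Or.inr h)

theorem cover : coverGo Fi22U62.tbl.n = true := by decide +kernel

/-- Some point moved differently by the first and third generators. -/
def differGo : ℕ → Bool
  | 0 => false
  | c + 1 => !(Nat.beq (Fi22U62.tbl.img c 0) (Fi22U62.tbl.img c 2)) || differGo c

theorem differGo_spec : ∀ {k : ℕ}, differGo k = true → ∃ c < k, Fi22U62.tbl.img c 0 ≠ Fi22U62.tbl.img c 2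
  | 0, h => absurd h Bool.false_ne_true
  | k + 1, h => by
    simp only [differGo, Bool.or_eq_true, Bool.not_eq_true'] at h
    rcases h with h | h
    · refine ⟨k, Nat.lt_succ_self k, fun e => ?_⟩
      rw [e] at h
      exact absurd h (by simp)
    · obtain ⟨c, hc, he⟩ := differGo_spec h
      exact ⟨c, Nat.lt_succ_of_lt hc, he⟩

theorem differ : differGo Fi22U62.tbl.n = true := by decide +kernel

theorem points :
    bit Fi22U62.orb1 (Fi22U62.tbl.app [1, 0, 2, 1] 0) = true ∧ bit Fi22U62.orb0 (Fi22U62.tbl.app [1, 0] 0) = true ∧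
      Fi22U62.tbl.img 0 1 ≠ 0 ∧ Fi22U62.tbl.img 0 0 = 0 := by
  decide +kernel

/-- In a braid relation each involution is conjugate to the other. -/
theorem conj_of_cube {G : Type*} [Group G] {x y : G} (hx : x * x = 1) (hy : y * y = 1) (h : (x * y) ^ 3 = 1) :
    (x * y) * x * (x * y)⁻¹ = y := by
  have hxi : x⁻¹ = x := inv_eq_of_mul_eq_one_right hx
  have hyi : y⁻¹ = y := inv_eq_of_mul_eq_one_right hy
  rw [mul_inv_rev, hxi, hyi]
  calc x * y * x * (y * x) = (x * y) ^ 3 * y⁻¹ := by rw [pow_succ, pow_two]; group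
    _ = y := by rw [h, one_mul, hyi]

/-- The structure of the transposition class, given simplicity. -/
theorem transpositions (hs : IsSimpleGroup Spor.Fi22) [Finite Spor.Fi22] :
    IsThreeTranspositionClass (conjugatesOf (σ 0)) ∧ Nat.card (conjugatesOf (σ 0)) = 3510 ∧
      Subgroup.centralizer ({σ 0} : Set Spor.Fi22) = U ∧
      ∀ d ∈ conjugatesOf (σ 0), Nonempty (↥(Subgroup.centralizer ({d} : Set Spor.Fi22)) ≃* ↥U) := by
  classical
  haveI := hs
  have hT := Fi22U62.checked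
  obtain ⟨f, hf⟩ := PresFi22.exists_hom hT.perm (fun x => hT.perm_sq x) hT.perm_rel
  obtain ⟨e, he0, he⟩ := hT.exists_equiv σ PresFi22.gens_sq PresFi22.gens_out PresFi22.gens_rels
    PresFi22.gens_top U rfl f hf
  obtain ⟨hp2, hp1, hb0, ha0⟩ := points
  have hfgen : ∀ x < 9, ∀ c : Fin Fi22U62.tbl.n, ((f (σ x) c : Fin Fi22U62.tbl.n) : ℕ) = Fi22U62.tbl.img c x := fun x hx c => by
    rw [hf x hx]; exact hT.perm_apply hx c
  have hfW : ∀ w : List ℕ, (∀ x ∈ w, x < 9) → ∀ c : Fin Fi22U62.tbl.n,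
      ((f (evalW σ w) c : Fin Fi22U62.tbl.n) : ℕ) = Fi22U62.tbl.app w c := by
    intro w hw c
    rw [show f (evalW σ w) = evalW hT.perm w from ?_]
    · exact hT.app_eq w hw c
    · clear c
      induction w with
      | nil => simp [evalW]
      | cons a w ih =>
        rw [evalW, evalW, map_mul, ih (fun x hx => hw x (List.mem_cons_of_mem _ hx)),
          hf a (hw a List.mem_cons_self)]
  have hinj : Function.Injective f := by
    refine (MonoidHom.ker_eq_bot_iff f).1 ((MonoidHom.normal_ker f).eq_bot_or_eq_top.resolve_right fun h => hb0 ?_)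
    have h1 : f (σ 1) = 1 := by
      rw [← MonoidHom.mem_ker, h]; trivial
    have h2 := hfgen 1 (by norm_num) ⟨0, hT.pos⟩
    rw [h1] at h2
    exact h2.symm
  -- the subgroup centralises the first generator
  have hUC : U ≤ Subgroup.centralizer ({σ 0} : Set Spor.Fi22) := by
    refine (Subgroup.closure_le _).2 ?_
    rintro _ ⟨w, hw, rfl⟩
    rw [SetLike.mem_coe, Subgroup.mem_centralizer_singleton_iff]
    have hall := List.all_eq_true.1 subs_commute w hw
    have hlet : ∀ x ∈ w, x < 9 := hT.letters (Or.inr hw)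
    have hone : evalW σ (w ++ [0] ++ w.reverse ++ [0]) = 1 := by
      refine hinj (Equiv.ext fun c => Fin.ext ?_)
      rw [hfW _ (fun x hx => ?_) c, map_one, Equiv.Perm.one_apply]
      · exact Tab.fixesAll_spec hall c c.isLt
      · simp only [List.mem_append, List.mem_reverse, List.mem_singleton] at hx
        rcases hx with ((h | h) | h) | h <;> first | exact hlet x h | omega
    simp only [evalW_append, evalW_reverse PresFi22.gens_sq, evalW, one_mul] at hone
    have hi : (σ 0)⁻¹ = σ 0 := inv_eq_of_mul_eq_one_right (PresFi22.gens_sq 0)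
    calc evalW σ w * σ 0 = evalW σ w * σ 0 * (σ 0 * ((evalW σ w)⁻¹ * (σ 0 * evalW σ w))) := by rw [hone, mul_one]
      _ = evalW σ w * (σ 0 * σ 0) * (evalW σ w)⁻¹ * (σ 0 * evalW σ w) := by group
      _ = σ 0 * evalW σ w := by rw [PresFi22.gens_sq, mul_one, mul_inv_cancel, one_mul]
  -- transpositions along the table
  let z : Fin Fi22U62.tbl.n := ⟨0, hT.pos⟩
  have hstab : ∀ g g' : Spor.Fi22, f g z = f g' z → g⁻¹ * g' ∈ U := by
    intro g g' h
    have h1 : g • e z = g' • e z := by rw [he, he, h]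
    rw [he0, MulAction.Quotient.smul_mk, MulAction.Quotient.smul_mk, smul_eq_mul, smul_eq_mul, mul_one,
      mul_one, QuotientGroup.eq] at h1
    exact h1
  have hconj : ∀ g g' : Spor.Fi22, f g z = f g' z → g * σ 0 * g⁻¹ = g' * σ 0 * g'⁻¹ := by
    intro g g' h
    have h1 := Subgroup.mem_centralizer_singleton_iff.1 (hUC (hstab g g' h))
    calc g * σ 0 * g⁻¹ = g * (σ 0 * (g⁻¹ * g')) * g'⁻¹ := by group
      _ = g * (g⁻¹ * g' * σ 0) * g'⁻¹ := by rw [h1]
      _ = g' * σ 0 * g'⁻¹ := by group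
  obtain ⟨k0, -, -, hm0⟩ := hT.orbit σ (H := U) rfl hf e he Fi22U62.orbit0
  obtain ⟨k1, -, -, hm1⟩ := hT.orbit σ (H := U) rfl hf e he Fi22U62.orbit1
  have hbc : ∀ x y : Spor.Fi22.Gen, Spor.coxLabel Spor.Fi22.edges x y = 3 →
      (σ (PresFi22.idx x) * σ (PresFi22.idx y)) ^ 3 = 1 := by
    intro x y h
    rw [PresFi22.gens_idx, PresFi22.gens_idx, ← h]
    exact PresFi22.gens_cox x y
  have cb := conj_of_cube (PresFi22.gens_sq 0) (PresFi22.gens_sq 1)
    (hbc Spor.Fi22.Gen.a Spor.Fi22.Gen.b (by decide))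
  have cc := conj_of_cube (PresFi22.gens_sq 1) (PresFi22.gens_sq 2)
    (hbc Spor.Fi22.Gen.b Spor.Fi22.Gen.c (by decide))
  set gb : Spor.Fi22 := σ 0 * σ 1
  set gc : Spor.Fi22 := σ 1 * σ 2 * gb
  have cc' : gc * σ 0 * gc⁻¹ = σ 2 := by
    rw [show gc * σ 0 * gc⁻¹ = σ 1 * σ 2 * (gb * σ 0 * gb⁻¹) * (σ 1 * σ 2)⁻¹ by
      simp only [gc]; group, cb, cc]
  have hpb : bit Fi22U62.orb0 (f gb z : Fin Fi22U62.tbl.n) = true := by
    rw [show gb = evalW σ [1, 0] by simp [gb, evalW], hfW _ (by simp) z]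
    exact hp1
  have hpc : bit Fi22U62.orb1 (f gc z : Fin Fi22U62.tbl.n) = true := by
    rw [show gc = evalW σ [1, 0, 2, 1] by simp [gc, gb, evalW, mul_assoc], hfW _ (by simp) z]
    exact hp2
  -- every conjugate is, up to the subgroup, one of the first three generators
  have hclass : ∀ g : Spor.Fi22, g ∈ U ∨ ∃ u ∈ U, g * σ 0 * g⁻¹ = u * σ 1 * u⁻¹ ∨
      g * σ 0 * g⁻¹ = u * σ 2 * u⁻¹ := by
    intro g
    have key : ∀ (k : Fin Fi22U62.tbl.n) (S : ℕ) (q : Spor.Fi22),
        (∀ c : Fin Fi22U62.tbl.n, e c ∈ MulAction.orbit U (e k) ↔ bit S c = true) → bit S (f q z : Fin Fi22U62.tbl.n) = true →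
        bit S (f g z : Fin Fi22U62.tbl.n) = true → ∃ u ∈ U, g * σ 0 * g⁻¹ = u * (q * σ 0 * q⁻¹) * u⁻¹ := by
      intro k S q hm hq hg
      have h1 := (hm _).2 hg
      rw [← MulAction.orbit_eq_iff.2 ((hm _).2 hq)] at h1
      obtain ⟨⟨u, hu⟩, h1⟩ := h1
      refine ⟨u, hu, ?_⟩
      have h2 : u • e (f q z) = e (f g z) := h1
      rw [he] at h2
      rw [hconj g (u * q) (by rw [map_mul, Equiv.Perm.mul_apply]; exact (e.injective h2).symm)]
      group
    rcases coverGo_spec cover _ (f g z).isLt with h | h | h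
    · refine Or.inl ?_
      have h1 := hstab 1 g (by rw [map_one, Equiv.Perm.one_apply]; exact Fin.ext h.symm)
      rwa [inv_one, one_mul] at h1
    · obtain ⟨u, hu, h1⟩ := key k0 _ gb hm0 hpb h
      exact Or.inr ⟨u, hu, Or.inl (cb ▸ h1)⟩
    · obtain ⟨u, hu, h1⟩ := key k1 _ gc hm1 hpc h
      exact Or.inr ⟨u, hu, Or.inr (cc' ▸ h1)⟩
  have hfix : ∀ u ∈ U, u * σ 0 * u⁻¹ = σ 0 := fun u hu => by
    rw [Subgroup.mem_centralizer_singleton_iff.1 (hUC hu), mul_inv_cancel_right]
  have h10 : σ 1 ≠ σ 0 := fun h => hb0 <| by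
    rw [← hfgen 1 (by norm_num) z, h, hfgen 0 (by norm_num) z]
    exact ha0
  have h20 : σ 2 ≠ σ 0 := fun h => by
    obtain ⟨c, hc, hne⟩ := differGo_spec differ
    exact hne (by rw [← hfgen 0 (by norm_num) ⟨c, hc⟩, ← hfgen 2 (by norm_num) ⟨c, hc⟩, h])
  have hCU : Subgroup.centralizer ({σ 0} : Set Spor.Fi22) = U := by
    refine le_antisymm (fun g hg => ?_) hUC
    have h0 : g * σ 0 * g⁻¹ = σ 0 := by
      rw [Subgroup.mem_centralizer_singleton_iff.1 hg, mul_inv_cancel_right]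
    rcases hclass g with h | ⟨u, hu, h | h⟩
    · exact h
    · refine absurd ?_ h10
      rw [h0] at h
      exact (mul_left_cancel (mul_right_cancel ((hfix u hu).trans h))).symm
    · refine absurd ?_ h20
      rw [h0] at h
      exact (mul_left_cancel (mul_right_cancel ((hfix u hu).trans h))).symm
  have hord : ∀ d ∈ conjugatesOf (σ 0), orderOf d = 2 := by
    intro d hd
    obtain ⟨g, rfl⟩ := isConj_iff.1 hd
    rw [show g * σ 0 * g⁻¹ = MulAut.conj g (σ 0) from rfl, MulEquiv.orderOf_eq]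
    refine orderOf_eq_prime (by rw [pow_two]; exact PresFi22.gens_sq 0) fun h => h10 ?_
    rw [← cb, h]; group
  refine ⟨⟨⟨hord, ?_⟩, ⟨σ 0, mem_conjugatesOf_self, rfl⟩, ?_⟩, ?_, hCU, ?_⟩
  · intro d hd d' hd'
    obtain ⟨g, rfl⟩ := isConj_iff.1 hd
    obtain ⟨g', rfl⟩ := isConj_iff.1 hd'
    have hr : g * σ 0 * g⁻¹ * (g' * σ 0 * g'⁻¹) =
        MulAut.conj g (σ 0 * ((g⁻¹ * g') * σ 0 * (g⁻¹ * g')⁻¹)) := by
      rw [MulAut.conj_apply]; group
    rw [hr, ← map_pow, ← map_pow, MulEquiv.map_eq_one_iff, MulEquiv.map_eq_one_iff]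
    rcases hclass (g⁻¹ * g') with h | ⟨u, hu, h | h⟩
    · left
      rw [hfix _ h, PresFi22.gens_sq 0, one_pow]
    · right
      rw [h, ← hfix u hu, show u * σ 0 * u⁻¹ * (u * σ 1 * u⁻¹) = MulAut.conj u (σ 0 * σ 1) by
        rw [MulAut.conj_apply]; group, ← map_pow, MulEquiv.map_eq_one_iff]
      exact hbc Spor.Fi22.Gen.a Spor.Fi22.Gen.b (by decide)
    · left
      rw [h, ← hfix u hu, show u * σ 0 * u⁻¹ * (u * σ 2 * u⁻¹) = MulAut.conj u (σ 0 * σ 2) by
        rw [MulAut.conj_apply]; group, ← map_pow, MulEquiv.map_eq_one_iff]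
      exact (show (σ 0 * σ 2) ^ Spor.coxLabel Spor.Fi22.edges Spor.Fi22.Gen.a Spor.Fi22.Gen.c = 1 from
        PresFi22.gens_cox Spor.Fi22.Gen.a Spor.Fi22.Gen.c)
  · haveI : IsSimpleGroup Spor.Fi22 := hs
    have hn : (Subgroup.closure (conjugatesOf (σ 0))).Normal := by
      have h1 : Subgroup.closure (conjugatesOf (σ 0)) = Subgroup.normalClosure {σ 0} := by
        simp [Subgroup.normalClosure, Group.conjugatesOfSet]
      rw [h1]
      infer_instance
    refine hn.eq_bot_or_eq_top.resolve_left fun h => ?_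
    have h1 := Subgroup.subset_closure (mem_conjugatesOf_self (a := σ 0))
    rw [h, SetLike.mem_coe, Subgroup.mem_bot] at h1
    have h2 := hord _ mem_conjugatesOf_self
    rw [h1, orderOf_one] at h2
    omega
  · have hidx : U.index = 3510 := (Nat.card_congr e.symm).trans (Nat.card_fin _)
    rw [← hidx, Subgroup.index]
    refine Nat.card_congr (Equiv.symm (Equiv.ofBijective
      (Quotient.lift (fun g : Spor.Fi22 => (⟨g * σ 0 * g⁻¹, isConj_iff.2 ⟨g, rfl⟩⟩ : conjugatesOf (σ 0)))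
        fun a b hab => Subtype.ext ?_) ⟨?_, ?_⟩))
    · have h1 : a⁻¹ * b ∈ U := QuotientGroup.leftRel_apply.1 hab
      show a * σ 0 * a⁻¹ = b * σ 0 * b⁻¹
      conv_rhs => rw [show b = a * (a⁻¹ * b) by group]
      calc a * σ 0 * a⁻¹ = a * ((a⁻¹ * b) * σ 0 * (a⁻¹ * b)⁻¹) * a⁻¹ := by rw [hfix _ h1]
        _ = _ := by group
    · intro q q'
      refine Quotient.inductionOn₂ q q' fun a b h => Quotient.sound ?_
      have h1 : a * σ 0 * a⁻¹ = b * σ 0 * b⁻¹ := congrArg Subtype.val h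
      refine QuotientGroup.leftRel_apply.2 ?_
      rw [← hCU, Subgroup.mem_centralizer_singleton_iff]
      calc a⁻¹ * b * σ 0 = a⁻¹ * (b * σ 0 * b⁻¹) * b := by group
        _ = a⁻¹ * (a * σ 0 * a⁻¹) * b := by rw [h1]
        _ = σ 0 * (a⁻¹ * b) := by group
    · rintro ⟨d, hd⟩
      obtain ⟨g, rfl⟩ := isConj_iff.1 hd
      exact ⟨Quotient.mk _ g, rfl⟩
  · intro d hd
    obtain ⟨g, rfl⟩ := isConj_iff.1 hd
    have h1 : Subgroup.centralizer ({g * σ 0 * g⁻¹} : Set Spor.Fi22) = U.map (MulAut.conj g).toMonoidHom := by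
      ext x
      rw [Subgroup.mem_map_equiv, ← hCU, Subgroup.mem_centralizer_singleton_iff, Subgroup.mem_centralizer_singleton_iff,
        MulAut.conj_symm_apply]
      constructor
      · intro h
        calc g⁻¹ * x * g * σ 0 = g⁻¹ * (x * (g * σ 0 * g⁻¹)) * g := by group
          _ = g⁻¹ * (g * σ 0 * g⁻¹ * x) * g := by rw [h]
          _ = σ 0 * (g⁻¹ * x * g) := by group
      · intro h
        calc x * (g * σ 0 * g⁻¹) = g * (g⁻¹ * x * g * σ 0) * g⁻¹ := by group
          _ = g * (σ 0 * (g⁻¹ * x * g)) * g⁻¹ := by rw [h]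
          _ = g * σ 0 * g⁻¹ * x := by group
    exact ⟨((U.equivMapOfInjective _ (MulAut.conj g).injective).trans (MulEquiv.subgroupCongr h1.symm)).symm⟩

end Cfsg.Agent.Fischer.Fi22Transp
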