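import Cfsg.Prelude.Def_RootSubgroups

/-! Conjugation of subgroups and rank one pairs (unipotent subgroups, double transitivity). -/

set_option autoImplicit false
open Cfsg
open scoped commutatorElement

namespace Cfsg.Agent.Fischer

variable {G : Type*} [Group G]

theorem mem_cb {A : Subgroup G} {g x : G} : x ∈ conjBy A g ↔ g⁻¹ * x * g ∈ A := by
  constructor
  · rintro ⟨a, ha, rfl⟩
    simpa [mul_assoc] using ha
  · intro h
    exact ⟨_, h, by simp [mul_assoc]⟩

theorem cb_mem {A : Subgroup G} {a : G} (g : G) (ha : a ∈ A) : g * a * g⁻¹ ∈ conjBy A g := by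
  rw [mem_cb]; simpa [mul_assoc] using ha

@[simp] theorem cb_one (A : Subgroup G) : conjBy A 1 = A := by
  ext x; rw [mem_cb]; simp

theorem cb_cb (A : Subgroup G) (g h : G) : conjBy (conjBy A h) g = conjBy A (g * h) := by
  ext x; simp [mem_cb, mul_assoc]

theorem cb_eq_self {A : Subgroup G} {g : G} :
    conjBy A g = A ↔ g ∈ Subgroup.normalizer (A : Set G) := by
  rw [Subgroup.mem_normalizer_iff]
  constructor
  · intro h x
    constructor
    · intro hx; rw [← h]; exact cb_mem g hx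
    · intro hx; rw [← h, mem_cb] at hx; simpa [mul_assoc] using hx
  · intro h
    ext x
    rw [mem_cb, h]; simp [mul_assoc]

theorem cb_of_mem {A : Subgroup G} {g : G} (h : g ∈ A) : conjBy A g = A :=
  cb_eq_self.2 (Subgroup.le_normalizer h)

theorem cb_of_commute {A : Subgroup G} {g : G} (h : ∀ a ∈ A, g * a = a * g) : conjBy A g = A := by
  rw [cb_eq_self]
  exact Subgroup.centralizer_le_normalizer _ (Subgroup.mem_centralizer_iff.2 fun a ha => (h a ha).symm)

theorem cb_inj {A B : Subgroup G} {g : G} : conjBy A g = conjBy B g ↔ A = B := by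
  constructor
  · intro h
    have := congrArg (fun C => conjBy C g⁻¹) h
    simpa [cb_cb] using this
  · rintro rfl; rfl

theorem cb_eq_iff {A B : Subgroup G} {g : G} : conjBy A g = B ↔ A = conjBy B g⁻¹ := by
  rw [← cb_inj (g := g) (B := conjBy B g⁻¹)]; simp [cb_cb]

theorem cb_le_of_le {A H : Subgroup G} {g : G} (hA : A ≤ H) (hg : g ∈ H) : conjBy A g ≤ H := by
  intro x hx
  rw [mem_cb] at hx
  have h := H.mul_mem (H.mul_mem hg (hA hx)) (H.inv_mem hg)
  simpa [mul_assoc] using h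

theorem normalizer_cb {A : Subgroup G} {g x : G} :
    x ∈ Subgroup.normalizer (conjBy A g : Set G) ↔ g⁻¹ * x * g ∈ Subgroup.normalizer (A : Set G) := by
  rw [← cb_eq_self, ← cb_eq_self, cb_cb, ← cb_inj (g := g⁻¹), cb_cb, cb_cb]
  simp [mul_assoc]

theorem commute_cb_right {A B : Subgroup G} (h : ⁅A, B⁆ = ⊥) {a b : G} (ha : a ∈ A) (hb : b ∈ B) :
    a * b = b * a := by
  have : ⁅a, b⁆ = (1 : G) := by
    have hm := Subgroup.commutator_mem_commutator ha hb
    rwa [h, Subgroup.mem_bot] at hm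
  exact commutatorElement_eq_one_iff_mul_comm.1 this

theorem bot_of_commute {A B : Subgroup G} (h : ∀ a ∈ A, ∀ b ∈ B, a * b = b * a) : ⁅A, B⁆ = ⊥ := by
  rw [Subgroup.commutator_eq_bot_iff_le_centralizer]
  intro a ha
  exact Subgroup.mem_centralizer_iff.2 fun b hb => (h a ha b hb).symm

section RankOne

variable {A B : Subgroup G} (h : IsRankOnePair A B)
include h

theorem symm : IsRankOnePair B A := RankOnePair_symm h

theorem eq_one_of_normalize {a : G} (ha : a ∈ A) (hn : a ∈ Subgroup.normalizer (B : Set G)) :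
    a = 1 := by
  by_contra hne
  obtain ⟨b, hb, _, hc⟩ := h.cond_left a ha hne
  rw [cb_eq_self.2 (inv_mem hn), cb_eq_iff, cb_of_mem (by simpa using hb)] at hc
  exact h.ne hc

theorem inf_normalizer : A ⊓ Subgroup.normalizer (B : Set G) = ⊥ :=
  (Subgroup.eq_bot_iff_forall _).2 fun _ hx => eq_one_of_normalize h hx.1 hx.2

theorem ne_bot_left : A ≠ ⊥ := by
  intro hA
  have hB : B ≠ ⊥ := fun e => h.ne (hA.trans e.symm)
  obtain ⟨b, hb, hb1⟩ := Subgroup.bot_or_exists_ne_one B |>.resolve_left hB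
  obtain ⟨a, ha, ha1, -⟩ := h.cond_right b hb hb1
  rw [hA, Subgroup.mem_bot] at ha
  exact ha1 ha

theorem exists_ne_one : ∃ a ∈ A, a ≠ 1 :=
  (Subgroup.bot_or_exists_ne_one A).resolve_left (ne_bot_left h)

theorem not_commute : ⁅A, B⁆ ≠ ⊥ := by
  intro hc
  obtain ⟨a, ha, ha1⟩ := exists_ne_one h
  refine ha1 (eq_one_of_normalize h ha ?_)
  exact cb_eq_self.1 (cb_of_commute fun b hb => commute_cb_right hc ha hb)

omit h in
theorem self_mem : A ∈ unipotentSubgroups A B := ⟨1, one_mem _, by simp⟩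

theorem exists_conj : ∃ x ∈ A ⊔ B, conjBy A x = B := by
  obtain ⟨a, ha, ha1⟩ := exists_ne_one h
  obtain ⟨b, hb, _, hc⟩ := h.cond_left a ha ha1
  refine ⟨a * b⁻¹, mul_mem (le_sup_left (α := Subgroup G) ha)
    (inv_mem (le_sup_right (α := Subgroup G) hb)), ?_⟩
  rw [← cb_cb, hc, cb_cb]; simp

theorem right_mem : B ∈ unipotentSubgroups A B := by
  obtain ⟨x, hx, e⟩ := exists_conj h; exact ⟨x, hx, e.symm⟩

omit h in
theorem unipotent_conj {C : Subgroup G} (hC : C ∈ unipotentSubgroups A B) {x : G} (hx : x ∈ A ⊔ B) :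
    conjBy C x ∈ unipotentSubgroups A B := by
  obtain ⟨y, hy, rfl⟩ := hC
  exact ⟨x * y, mul_mem hx hy, cb_cb _ _ _⟩

omit h in
theorem unipotent_le {C : Subgroup G} (hC : C ∈ unipotentSubgroups A B) : C ≤ A ⊔ B := by
  obtain ⟨y, hy, rfl⟩ := hC
  exact cb_le_of_le le_sup_left hy

/-- The conjugates of `A` under `⟨A, B⟩` are `A` and the conjugates of `B` under `A`. -/
theorem unipotent_cases {C : Subgroup G} (hC : C ∈ unipotentSubgroups A B) :
    C = A ∨ ∃ a ∈ A, C = conjBy B a := by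
  let P : Subgroup G → Prop := fun C => C = A ∨ ∃ a ∈ A, C = conjBy B a
  have hA : ∀ C, P C → ∀ x ∈ A, P (conjBy C x) := by
    rintro C (rfl | ⟨a, ha, rfl⟩) x hx
    · exact Or.inl (cb_of_mem hx)
    · exact Or.inr ⟨x * a, mul_mem hx ha, cb_cb _ _ _⟩
  have hAB : ∀ b ∈ B, P (conjBy A b) := by
    intro b hb
    by_cases hb1 : b = 1
    · exact Or.inl (by simp [hb1])
    obtain ⟨a, ha, _, hc⟩ := h.cond_right b⁻¹ (inv_mem hb) (by simpa using hb1)
    refine Or.inr ⟨a⁻¹, inv_mem ha, ?_⟩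
    simpa using hc.symm
  have hB : ∀ C, P C → ∀ x ∈ B, P (conjBy C x) := by
    rintro C (rfl | ⟨a, ha, rfl⟩) x hx
    · exact hAB x hx
    · by_cases ha1 : a = 1
      · exact Or.inr ⟨1, one_mem _, by simp [ha1, cb_of_mem hx]⟩
      obtain ⟨b, hb, _, hc⟩ := h.cond_left a⁻¹ (inv_mem ha) (by simpa using ha1)
      rw [inv_inv] at hc
      rw [← hc, cb_cb]
      exact hAB _ (mul_mem hx (inv_mem hb))
  obtain ⟨x, hx, rfl⟩ := hC
  suffices ∀ C, P C → P (conjBy C x) from this A (Or.inl rfl)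
  clear hAB
  rw [← Subgroup.closure_eq A, ← Subgroup.closure_eq B, ← Subgroup.closure_union] at hx
  refine Subgroup.closure_induction'' (p := fun x _ => ∀ C, P C → P (conjBy C x)) ?_ ?_ ?_ ?_ hx
  · rintro x (hx | hx) C hC
    · exact hA C hC x hx
    · exact hB C hC x hx
  · rintro x (hx | hx) C hC
    · exact hA C hC _ (inv_mem hx)
    · exact hB C hC _ (inv_mem hx)
  · intro C hC; simpa using hC
  · intro x y _ _ ihx ihy C hC; rw [← cb_cb]; exact ihx _ (ihy _ hC)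

theorem regular {a a' : G} (ha : a ∈ A) (ha' : a' ∈ A) (e : conjBy B a = conjBy B a') : a = a' := by
  rw [cb_eq_iff, cb_cb, eq_comm, cb_eq_self] at e
  exact (inv_mul_eq_one.1 (eq_one_of_normalize h (mul_mem (inv_mem ha) ha') e))

theorem cb_ne {a : G} (ha : a ∈ A) : conjBy B a ≠ A := by
  intro e
  rw [cb_eq_iff, cb_of_mem (inv_mem ha)] at e
  exact h.ne e.symm

theorem right_of_ne {C : Subgroup G} (hC : C ∈ unipotentSubgroups A B) (hne : C ≠ A) :
    ∃ a ∈ A, C = conjBy B a := (unipotent_cases h hC).resolve_left hne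

theorem two_trans {C₁ C₂ : Subgroup G} (h₁ : C₁ ∈ unipotentSubgroups A B)
    (h₂ : C₂ ∈ unipotentSubgroups A B) (hne : C₁ ≠ C₂) :
    ∃ x ∈ A ⊔ B, conjBy A x = C₁ ∧ conjBy B x = C₂ := by
  obtain ⟨x, hx, rfl⟩ := h₁
  have h' := unipotent_conj h₂ (inv_mem hx)
  obtain ⟨a, ha, e⟩ := right_of_ne h h' (by
    intro e; rw [cb_eq_iff] at e; simp at e; exact hne e.symm)
  refine ⟨x * a, mul_mem hx (le_sup_left (α := Subgroup G) ha), ?_, ?_⟩
  · rw [← cb_cb, cb_of_mem ha]
  · rw [← cb_cb, ← e, cb_cb]; simp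

theorem eq_one_of_normalize' {C D : Subgroup G} (hC : C ∈ unipotentSubgroups A B)
    (hD : D ∈ unipotentSubgroups A B) (hne : C ≠ D) {c : G} (hc : c ∈ C)
    (hn : c ∈ Subgroup.normalizer (D : Set G)) : c = 1 := by
  obtain ⟨x, -, rfl, rfl⟩ := two_trans h hC hD hne
  rw [mem_cb] at hc
  rw [normalizer_cb] at hn
  have := eq_one_of_normalize h hc hn
  simpa [mul_assoc, mul_inv_eq_one, inv_mul_eq_one] using this

theorem eq_of_commute {C D : Subgroup G} (hC : C ∈ unipotentSubgroups A B)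
    (hD : D ∈ unipotentSubgroups A B) (hc : ⁅C, D⁆ = ⊥) : C = D := by
  by_contra hne
  obtain ⟨x, hx, rfl⟩ := hC
  obtain ⟨a, ha, ha1⟩ := exists_ne_one h
  have := eq_one_of_normalize' h ⟨x, hx, rfl⟩ hD hne (cb_mem x ha)
    (cb_eq_self.1 (cb_of_commute fun d hd => commute_cb_right hc (cb_mem x ha) hd))
  simp at this
  exact ha1 this

theorem sup_eq_of_unipotent {C D : Subgroup G} (hC : C ∈ unipotentSubgroups A B)
    (hD : D ∈ unipotentSubgroups A B) (hne : C ≠ D) : C ⊔ D = A ⊔ B := by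
  obtain ⟨x, hx, rfl, rfl⟩ := two_trans h hC hD hne
  show A.map _ ⊔ B.map _ = A ⊔ B
  rw [← Subgroup.map_sup]
  exact cb_eq_self.2 (Subgroup.le_normalizer hx)

theorem third : ∃ C ∈ unipotentSubgroups A B, C ≠ A ∧ C ≠ B := by
  obtain ⟨a, ha, ha1⟩ := exists_ne_one h
  refine ⟨conjBy B a, unipotent_conj (right_mem h) (le_sup_left (α := Subgroup G) ha), cb_ne h ha, ?_⟩
  intro e
  exact ha1 (eq_one_of_normalize h ha (cb_eq_self.1 e))

theorem two_trans_full {C₁ C₂ D₁ D₂ : Subgroup G} (h₁ : C₁ ∈ unipotentSubgroups A B)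
    (h₂ : C₂ ∈ unipotentSubgroups A B) (h₃ : D₁ ∈ unipotentSubgroups A B)
    (h₄ : D₂ ∈ unipotentSubgroups A B) (hC : C₁ ≠ C₂) (hD : D₁ ≠ D₂) :
    ∃ x ∈ A ⊔ B, conjBy C₁ x = D₁ ∧ conjBy C₂ x = D₂ := by
  obtain ⟨x, hx, rfl, rfl⟩ := two_trans h h₁ h₂ hC
  obtain ⟨y, hy, rfl, rfl⟩ := two_trans h h₃ h₄ hD
  exact ⟨y * x⁻¹, mul_mem hy (inv_mem hx), by simp [cb_cb], by simp [cb_cb]⟩

theorem sup_eq_of_normal {N : Subgroup G} (hN : N ≤ A ⊔ B)
    {n : G} (hnN : n ∈ N) (hmove : conjBy A n ≠ A) :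
    N ⊔ A = A ⊔ B := by
  refine le_antisymm (sup_le hN le_sup_left) (sup_le le_sup_right ?_)
  have hC : conjBy A n ∈ unipotentSubgroups A B := unipotent_conj self_mem (hN hnN)
  obtain ⟨a, ha, e⟩ := right_of_ne h hC hmove
  have hle : conjBy A n ≤ N ⊔ A := cb_le_of_le le_sup_right (le_sup_left (α := Subgroup G) hnN)
  rw [e] at hle
  intro b hb
  have := hle (cb_mem a hb)
  have haN : a ∈ N ⊔ A := le_sup_right (α := Subgroup G) ha
  simpa [mul_assoc] using mul_mem (mul_mem (inv_mem haN) this) haN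

end RankOne

end Cfsg.Agent.Fischer
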