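import Cfsg.Agent.Fischer.RootBasic

/-! A commutator `⁅A, B⁆` which is a member excludes a rank one pair; planes `A ⊔ ⁅A, B⁆`. -/

set_option autoImplicit false
open Cfsg
open scoped commutatorElement

namespace Cfsg.Agent.Fischer

variable {G : Type*} [Group G] {S : Set (Subgroup G)} (hS : IsRootSubgroupSet S)
include hS

theorem not_rankOne_of_member {A B : Subgroup G} (hAS : A ∈ S) (hB : B ∈ S) (hC' : ⁅A, B⁆ ∈ S) :
    ¬ IsRankOnePair A B := by
  intro hR
  set C := ⁅A, B⁆ with hCdef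
  have hC := hC'
  have hnorm : ∀ x ∈ A ⊔ B, conjBy C x = C := fun x hx =>
    cb_eq_self.2 (sup_le (Subgroup.normalizer_commutator_ge_left _ _)
      (Subgroup.normalizer_commutator_ge_right _ _) hx)
  have hle : C ≤ A ⊔ B := Subgroup.commutator_le.2 fun x hx y hy => by
    have hx' : x ∈ A ⊔ B := le_sup_left (α := Subgroup G) hx
    have hy' : y ∈ A ⊔ B := le_sup_right (α := Subgroup G) hy
    rw [commutatorElement_def]
    exact mul_mem (mul_mem (mul_mem hx' hy') (inv_mem hx')) (inv_mem hy')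
  have hcent : ∀ {X Y : Subgroup G}, X ∈ S → Y ∈ unipotentSubgroups A B →
      X ∈ unipotentSubgroups A B → X ≠ Y → (∀ x ∈ X, x ∈ A ⊔ B) →
      (∀ c ∈ C, conjBy X c = X) → (∀ c ∈ C, conjBy Y c = Y) → ⁅C, X⁆ = ⊥ := by
    intro X Y hX hY hXu hne hXle hfX hfY
    refine bot_of_commute fun c hc x hx => ?_
    have h1 : ⁅c, x⁆ ∈ X := by
      have := mul_mem (hfX c hc ▸ cb_mem c hx) (inv_mem hx)
      rwa [commutatorElement_def]
    have h2 : ⁅c, x⁆ ∈ C := by
      have := mul_mem hc (hnorm x (hXle x hx) ▸ cb_mem x (inv_mem hc))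
      simpa [commutatorElement_def, mul_assoc] using this
    exact commutatorElement_eq_one_iff_mul_comm.1
      (eq_one_of_normalize' hR hXu hY hne h1 (cb_eq_self.1 (hfY _ h2)))
  have hfix : ∀ {X : Subgroup G}, X ∈ S → X ∈ unipotentSubgroups A B →
      (∀ x ∈ X, x ∈ A ⊔ B) → ∀ c ∈ C, conjBy X c = X := by
    intro X hX hXu hXle c hc
    refine eq_of_commute hR (unipotent_conj hXu (hle hc)) hXu (cb_commute hS hC hX (fun h => ?_) hc)
    obtain ⟨y, hy, hy1⟩ := exists_ne_one (RankOnePair_symm h)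
    exact hy1 (eq_one_of_normalize (RankOnePair_symm h) hy (cb_eq_self.1 (hnorm y (hXle y hy))))
  have hAle : ∀ x ∈ A, x ∈ A ⊔ B := fun x hx => le_sup_left (α := Subgroup G) hx
  have hBle : ∀ x ∈ B, x ∈ A ⊔ B := fun x hx => le_sup_right (α := Subgroup G) hx
  have hcA := hcent hAS (right_mem hR) self_mem hR.ne hAle (hfix hAS self_mem hAle)
    (hfix hB (right_mem hR) hBle)
  obtain ⟨b, hb, hb1⟩ := exists_ne_one (RankOnePair_symm hR)
  refine hb1 (eq_one_of_normalize (RankOnePair_symm hR) hb (cb_eq_self.1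
    (eq_of_commute hR (unipotent_conj self_mem (hBle b hb)) self_mem (bot_of_commute fun x hx y hy => ?_))))
  rw [mem_cb] at hx
  have e' : x = ⁅b, b⁻¹ * x * b⁆ * (b⁻¹ * x * b) := by simp [commutatorElement_def, mul_assoc]
  have hm : ⁅b, b⁻¹ * x * b⁆ ∈ C := by
    rw [hCdef, Subgroup.commutator_comm]; exact Subgroup.commutator_mem_commutator hb hx
  rw [e']
  exact ((show Commute _ y from commute_cb_right hcA hm hy).mul_left
    (show Commute _ y from member_comm hS hAS hx hy)).eq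

theorem case_of_member {A B : Subgroup G} (hA : A ∈ S) (hB : B ∈ S) (hC : ⁅A, B⁆ ∈ S) :
    RootCommutatorCase S A B :=
  pair_case hS hA hB (not_rankOne_of_member hS hA hB hC) (hS.ne_bot _ hC)

end Cfsg.Agent.Fischer
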